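import Groth.Agent.Lib.ProjDescent.Countable

/-!
Faithfully flat descent of projectivity: Kaplansky's dévissage.
-/

universe u v

set_option maxSynthPendingDepth 3

open TensorProduct

namespace GrothLib.ProjDescent

variable {R : Type u} [CommRing R]

theorem projective_of_countable_set (S : Type u) [CommRing S] [Algebra R S]
    [Module.FaithfullyFlat R S] {Q : Type u} [AddCommGroup Q] [Module R Q]
    [Module.Projective S (S ⊗[R] Q)] (C : Set Q) (hC : C.Countable) (hspan : Submodule.span R C = ⊤) :
    Module.Projective R Q := by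
  obtain ⟨q, hq⟩ := (Set.countable_insert.mpr hC : (insert (0 : Q) C).Countable).exists_eq_range
    (Set.insert_nonempty _ _)
  exact projective_of_countable S q
    (top_le_iff.mp (hspan ▸ Submodule.span_mono (hq ▸ Set.subset_insert _ _)))

section

variable {S : Type u} [CommRing S] [Algebra R S] {M : Type u} [AddCommGroup M] [Module R M]
  {J : Type v} (i : S ⊗[R] M →ₗ[S] (J →₀ S)) (p : (J →₀ S) →ₗ[S] S ⊗[R] M)

/-- A submodule is adapted to a set of basis vectors if it becomes the corresponding summand. -/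
def Adapted (M' : Submodule R M) (J' : Set J) : Prop :=
  (∀ m ∈ M', i (1 ⊗ₜ m) ∈ Finsupp.supported S S J') ∧
    ∀ j ∈ J', p (Finsupp.single j 1) ∈ LinearMap.range (M'.subtype.baseChange S)

theorem adapted_bot : Adapted i p ⊥ ∅ :=
  ⟨fun m hm => by rw [(Submodule.mem_bot R).mp hm, tmul_zero, map_zero]; exact zero_mem _,
    fun _ h => h.elim⟩

theorem adapted_sUnion {ι : Type*} (M' : ι → Submodule R M) (J' : ι → Set J)
    (hdir : Directed (· ≤ ·) M') (h : ∀ a, Adapted i p (M' a) (J' a)) [Nonempty ι] :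
    Adapted i p (⨆ a, M' a) (⋃ a, J' a) := by
  refine ⟨fun m hm => ?_, fun j hj => ?_⟩
  · obtain ⟨a, ha⟩ := (Submodule.mem_iSup_of_directed _ hdir).mp hm
    exact Finsupp.supported_mono (Set.subset_iUnion J' a) ((h a).1 m ha)
  · obtain ⟨a, ha⟩ := Set.mem_iUnion.mp hj
    obtain ⟨z, hz⟩ := (h a).2 j ha
    refine ⟨(Submodule.inclusion (le_iSup M' a)).baseChange S z, ?_⟩
    rw [← hz, ← LinearMap.comp_apply, ← LinearMap.baseChange_comp, Submodule.subtype_comp_inclusion]

/-- Closing up under the two conditions. -/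
theorem exists_countable_adapted (M' : Submodule R M) (J' : Set J) (h : Adapted i p M' J') (m : M) :
    ∃ (C : Set M) (J'' : Set J), C.Countable ∧ J' ⊆ J'' ∧
      Adapted i p (M' ⊔ Submodule.span R C) J'' ∧ m ∈ C := by
  classical
  choose G hGc hG using fun j : J =>
    exists_countable_span_le (S := S) (fun _ : Unit => p (Finsupp.single j 1))
  let sup : Set M → Set J := fun C => ⋃ c ∈ C, ↑(i (1 ⊗ₜ c)).support
  let step : Set M → Set M := fun C => C ∪ ⋃ j ∈ sup C, G j
  let C : ℕ → Set M := fun n => step^[n] {m}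
  have hC : ∀ n, (C n).Countable := by
    intro n
    induction n with
    | zero => exact Set.countable_singleton m
    | succ n ih =>
      simp only [C, Function.iterate_succ_apply']
      exact ih.union ((ih.biUnion fun c _ => (i (1 ⊗ₜ c)).support.finite_toSet.countable).biUnion
        fun j _ => hGc j)
  refine ⟨⋃ n, C n, J' ∪ sup (⋃ n, C n), Set.countable_iUnion hC, Set.subset_union_left,
    ⟨fun x hx => ?_, fun j hj => ?_⟩, Set.mem_iUnion.mpr ⟨0, rfl⟩⟩
  · have hle : M' ⊔ Submodule.span R (⋃ n, C n) ≤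
        ((Finsupp.supported S S (J' ∪ sup (⋃ n, C n))).restrictScalars R).comap
          ((i.restrictScalars R) ∘ₗ TensorProduct.mk R S M 1) := by
      refine sup_le (fun y hy => Finsupp.supported_mono Set.subset_union_left (h.1 y hy))
        (Submodule.span_le.mpr fun y hy => ?_)
      change i (1 ⊗ₜ y) ∈ Finsupp.supported S S _
      rw [Finsupp.mem_supported]
      exact (Set.subset_biUnion_of_mem (u := fun c => (↑(i (1 ⊗ₜ c)).support : Set J)) hy).trans
        Set.subset_union_right
    exact hle hx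
  · have key : ∀ (N : Submodule R M), N ≤ M' ⊔ Submodule.span R (⋃ n, C n) →
        ∀ w, w ∈ LinearMap.range (N.subtype.baseChange S) →
        w ∈ LinearMap.range ((M' ⊔ Submodule.span R (⋃ n, C n)).subtype.baseChange S) := by
      rintro N hN _ ⟨z, rfl⟩
      exact ⟨(Submodule.inclusion hN).baseChange S z, by
        rw [← LinearMap.comp_apply, ← LinearMap.baseChange_comp, Submodule.subtype_comp_inclusion]⟩
    rcases hj with hj | hj
    · exact key M' le_sup_left _ (h.2 j hj)
    · obtain ⟨c, hc, hjc⟩ := Set.mem_iUnion₂.mp hj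
      obtain ⟨n, hn⟩ := Set.mem_iUnion.mp hc
      refine key (Submodule.span R (G j)) (le_sup_of_le_right (Submodule.span_mono ?_)) _ (hG j ())
      intro g hg
      refine Set.mem_iUnion.mpr ⟨n + 1, ?_⟩
      simp only [C, Function.iterate_succ_apply']
      exact Or.inr (Set.mem_iUnion₂.mpr ⟨j, Set.mem_iUnion₂.mpr ⟨c, hn, hjc⟩, hg⟩)

variable {i p}

theorem projective_quotient (hpi : p ∘ₗ i = LinearMap.id) {M' : Submodule R M} {J' : Set J}
    (h : Adapted i p M' J') : Module.Projective S (S ⊗[R] (M ⧸ M')) := by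
  classical
  let ρ : (J →₀ S) →ₗ[S] (↥J'ᶜ →₀ S) := Finsupp.lcomapDomain Subtype.val Subtype.val_injective
  let q : S ⊗[R] M →ₗ[S] S ⊗[R] (M ⧸ M') := M'.mkQ.baseChange S
  have hq : Function.Surjective q := LinearMap.lTensor_surjective S M'.mkQ_surjective
  have hex : Function.Exact (M'.subtype.baseChange S) q :=
    lTensor_exact S (LinearMap.exact_subtype_mkQ M') M'.mkQ_surjective
  have hker : LinearMap.ker q ≤ LinearMap.ker (ρ ∘ₗ i) := by
    intro x hx
    obtain ⟨z, rfl⟩ := (hex x).mp hx
    rw [LinearMap.mem_ker]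
    clear hx
    induction z with
    | zero => simp
    | add a b ha hb => rw [map_add, map_add, ha, hb, add_zero]
    | tmul s m =>
      have : (M'.subtype.baseChange S) (s ⊗ₜ m) = s • ((1 : S) ⊗ₜ[R] (m : M)) := by
        rw [LinearMap.baseChange_tmul, smul_tmul', smul_eq_mul, mul_one]; rfl
      rw [this, map_smul]
      refine smul_eq_zero_of_right _ (Finsupp.ext fun j => ?_)
      change i (1 ⊗ₜ (m : M)) j.1 = 0
      exact Finsupp.notMem_support_iff.mp fun hj =>
        j.2 ((Finsupp.mem_supported S _).mp (h.1 m m.2) hj)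
  let ī : S ⊗[R] (M ⧸ M') →ₗ[S] (↥J'ᶜ →₀ S) :=
    (LinearMap.ker q).liftQ (ρ ∘ₗ i) hker ∘ₗ (q.quotKerEquivOfSurjective hq).symm.toLinearMap
  let p' : (↥J'ᶜ →₀ S) →ₗ[S] S ⊗[R] (M ⧸ M') := q ∘ₗ p ∘ₗ Finsupp.lmapDomain S S Subtype.val
  refine Module.Projective.of_split ī p' (LinearMap.ext fun x => ?_)
  obtain ⟨t, rfl⟩ := hq x
  have h1 : (q.quotKerEquivOfSurjective hq).symm (q t) = Submodule.Quotient.mk t :=
    (q.quotKerEquivOfSurjective hq).injective (by rw [LinearEquiv.apply_symm_apply]; rfl)
  simp only [ī, p', LinearMap.comp_apply, LinearEquiv.coe_coe, h1, Submodule.liftQ_apply,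
    LinearMap.id_apply]
  have h2 : ∀ w : J →₀ S,
      q (p (Finsupp.lmapDomain S S Subtype.val (ρ w))) = q (p w) := by
    intro w
    induction w using Finsupp.induction_linear with
    | zero => simp
    | add a b ha hb => simp only [map_add, ha, hb]
    | single j s =>
      by_cases hj : j ∈ J'
      · have hz : ρ (Finsupp.single j s) = 0 := Finsupp.ext fun l => by
          change Finsupp.single j s l.1 = 0
          rw [Finsupp.single_eq_of_ne]
          rintro rfl
          exact l.2 hj
        rw [hz, map_zero, map_zero, map_zero, ← Finsupp.smul_single_one, map_smul, map_smul]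
        symm
        refine smul_eq_zero_of_right _ ?_
        exact (hex _).mpr (h.2 j hj)
      · have hz : ρ (Finsupp.single j s) = Finsupp.single (⟨j, hj⟩ : ↥J'ᶜ) s := Finsupp.ext fun l => by
          change Finsupp.single j s l.1 = _
          simp [Finsupp.single_apply, Subtype.ext_iff]
        rw [hz, Finsupp.lmapDomain_apply, Finsupp.mapDomain_single]
  rw [h2, show p (i t) = t from LinearMap.congr_fun hpi t]

end

/-- Independent submodules, plus one meeting their supremum trivially. -/
theorem independent_insert {M : Type u} [AddCommGroup M] [Module R M] {𝒩 : Set (Submodule R M)}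
    (h : sSupIndep 𝒩) {N : Submodule R M} (hN : Disjoint N (sSup 𝒩)) :
    sSupIndep (insert N 𝒩) := by
  intro a ha
  rcases ha with rfl | ha
  · refine hN.mono_right (sSup_le_sSup ?_)
    rintro x ⟨hx | hx, hne⟩
    · exact absurd hx hne
    · exact hx
  · have h1 : Disjoint a (sSup (𝒩 \ {a})) := h ha
    have h2 : sSup (insert N 𝒩 \ {a}) ≤ N ⊔ sSup (𝒩 \ {a}) := by
      refine sSup_le ?_
      rintro x ⟨hx | hx, hne⟩
      · exact hx ▸ le_sup_left
      · exact le_sup_of_le_right (le_sSup ⟨hx, hne⟩)
    refine Disjoint.mono_right h2 ?_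
    rw [sup_comm]
    refine h1.disjoint_sup_right_of_disjoint_sup_left ?_
    refine Disjoint.mono_left ?_ hN.symm
    exact sup_le (le_sSup ha) (sSup_le_sSup Set.diff_subset)

/-- **Faithfully flat descent of projectivity** (Raynaud–Gruson). -/
theorem projective_of_faithfullyFlat (S : Type u) [CommRing S] [Algebra R S]
    [Module.FaithfullyFlat R S] (M : Type u) [AddCommGroup M] [Module R M]
    [Module.Projective S (S ⊗[R] M)] : Module.Projective R M := by
  classical
  obtain ⟨i, hi⟩ := (Module.projective_def' (R := S) (P := S ⊗[R] M)).mp ‹_›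
  let J := S ⊗[R] M
  let p : (J →₀ S) →ₗ[S] S ⊗[R] M := Finsupp.linearCombination S id
  let P : Set (Set (Submodule R M) × Set J) := {x | Adapted i p (sSup x.1) x.2 ∧
    sSupIndep x.1 ∧ ∀ N ∈ x.1, Module.Projective R N}
  obtain ⟨⟨𝒩, J'⟩, hmax⟩ : ∃ x, Maximal (· ∈ P) x := by
    refine zorn_le₀ P fun c hc hchain => ?_
    rcases c.eq_empty_or_nonempty with rfl | hne
    · refine ⟨(∅, ∅), ⟨?_, sSupIndep_empty, fun N hN => hN.elim⟩, fun z hz => hz.elim⟩
      rw [sSup_empty]; exact adapted_bot i p
    have hd : DirectedOn (· ≤ ·) c := hchain.directedOn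
    refine ⟨(⋃ x ∈ c, x.1, ⋃ x ∈ c, x.2), ⟨?_, ?_, ?_⟩, fun z hz =>
      ⟨Set.subset_biUnion_of_mem (u := Prod.fst) hz, Set.subset_biUnion_of_mem (u := Prod.snd) hz⟩⟩
    · have : Nonempty ↥c := hne.to_subtype
      have h1 : sSup (⋃ x ∈ c, x.1) = ⨆ x : ↥c, sSup x.1.1 := by
        rw [Set.biUnion_eq_iUnion, sSup_iUnion]
      have h2 : (⋃ x ∈ c, x.2) = ⋃ x : ↥c, x.1.2 := Set.biUnion_eq_iUnion _ _
      change Adapted i p (sSup (⋃ x ∈ c, x.1)) (⋃ x ∈ c, x.2)
      rw [h1, h2]
      refine adapted_sUnion i p _ _ ?_ fun x => (hc x.2).1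
      intro a b
      obtain ⟨z, hz, haz, hbz⟩ := hd a.1 a.2 b.1 b.2
      exact ⟨⟨z, hz⟩, sSup_le_sSup haz.1, sSup_le_sSup hbz.1⟩
    · change sSupIndep (⋃ x ∈ c, x.1)
      rw [Set.biUnion_eq_iUnion]
      refine sSupIndep_iUnion_of_directed ?_ fun x => (hc x.2).2.1
      intro a b
      obtain ⟨z, hz, haz, hbz⟩ := hd a.1 a.2 b.1 b.2
      exact ⟨⟨z, hz⟩, haz.1, hbz.1⟩
    · rintro N hN
      obtain ⟨x, hx, hN⟩ := Set.mem_iUnion₂.mp hN
      exact (hc hx).2.2 N hN
  obtain ⟨hA, hI, hP⟩ := hmax.prop
  have htop : sSup 𝒩 = ⊤ := by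
    by_contra hne
    obtain ⟨m, hm⟩ : ∃ m, m ∉ sSup 𝒩 := by
      by_contra h
      push Not at h
      exact hne (top_le_iff.mp fun x _ => h x)
    obtain ⟨C, J'', hC, hJ, hA', hmC⟩ := exists_countable_adapted i p _ _ hA m
    let M' := sSup 𝒩
    let M'' := M' ⊔ Submodule.span R C
    have hle : M' ≤ M'' := le_sup_left
    let Q := Submodule.map M'.mkQ M''
    have hQ : Submodule.span R ((fun c : ↥C => (⟨M'.mkQ c.1, Submodule.mem_map_of_mem
        (Submodule.mem_sup_right (Submodule.subset_span c.2))⟩ : ↥Q)) '' Set.univ) = ⊤ := by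
      apply Submodule.map_injective_of_injective Q.injective_subtype
      rw [Submodule.map_span, Submodule.map_top, Submodule.range_subtype, ← Set.image_comp]
      have h1 : (Q.subtype ∘ fun c : ↥C => (⟨M'.mkQ c.1, Submodule.mem_map_of_mem
        (Submodule.mem_sup_right (Submodule.subset_span c.2))⟩ : ↥Q)) '' Set.univ = M'.mkQ '' C := by
        ext x; simp
      rw [h1, ← Submodule.map_span]
      simp [Q, M'', Submodule.map_sup, Submodule.mkQ_map_self]
    have : Module.Projective S (S ⊗[R] Q) := by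
      have := projective_quotient (by exact hi) hA'
      have e : ((M ⧸ M') ⧸ Q) ≃ₗ[R] M ⧸ M'' := Submodule.quotientQuotientEquivQuotient M' M'' hle
      have hPq : Module.Projective S (S ⊗[R] ((M ⧸ M') ⧸ Q)) :=
        Module.Projective.of_equiv (e.baseChange R S _ _).symm
      have hPM := projective_quotient (by exact hi) hA
      obtain ⟨σ, hσ⟩ := Module.projective_lifting_property (Q.mkQ.baseChange S) LinearMap.id
        (LinearMap.lTensor_surjective S Q.mkQ_surjective)
      have hinj : Function.Injective (Q.subtype.baseChange S) :=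
        Module.Flat.lTensor_preserves_injective_linearMap _ Q.injective_subtype
      have hex : Function.Exact (Q.subtype.baseChange S) (Q.mkQ.baseChange S) :=
        lTensor_exact S (LinearMap.exact_subtype_mkQ Q) Q.mkQ_surjective
      have hmem : ∀ w, w - σ (Q.mkQ.baseChange S w) ∈ LinearMap.range (Q.subtype.baseChange S) := by
        intro w
        have := LinearMap.congr_fun hσ (Q.mkQ.baseChange S w)
        exact (hex _).mp (by rw [map_sub, sub_eq_zero]; exact this.symm)
      let e' := LinearEquiv.ofInjective (Q.subtype.baseChange S) hinj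
      refine Module.Projective.of_split (Q.subtype.baseChange S)
        (e'.symm.toLinearMap ∘ₗ LinearMap.codRestrict _ (LinearMap.id - σ ∘ₗ Q.mkQ.baseChange S) hmem)
        (LinearMap.ext fun w => ?_)
      apply e'.injective
      rw [LinearMap.comp_apply, LinearMap.comp_apply, LinearEquiv.coe_coe,
        LinearEquiv.apply_symm_apply, LinearMap.id_apply]
      apply Subtype.ext
      change Q.subtype.baseChange S w - σ (Q.mkQ.baseChange S (Q.subtype.baseChange S w)) = _
      rw [(hex _).mpr ⟨w, rfl⟩, map_zero, sub_zero]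
      rfl
    have hproj : Module.Projective R Q := projective_of_countable_set S _
      (by rw [Set.image_univ]; have := hC.to_subtype; exact Set.countable_range _) hQ
    let g : ↥M'' →ₗ[R] ↥Q := M'.mkQ.restrict fun x hx => Submodule.mem_map_of_mem hx
    have hg : Function.Surjective g := by
      rintro ⟨_, x, hx, rfl⟩
      exact ⟨⟨x, hx⟩, rfl⟩
    obtain ⟨σ, hσ⟩ := Module.projective_lifting_property g LinearMap.id hg
    let N := LinearMap.range (M''.subtype ∘ₗ σ)
    have hσ' : ∀ y, M'.mkQ (σ y : M) = (y : M ⧸ M') := fun y =>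
      congrArg Subtype.val (LinearMap.congr_fun hσ y)
    have hdisj : Disjoint N M' := by
      rw [Submodule.disjoint_def]
      rintro _ ⟨y, rfl⟩ hy
      have : y = 0 := Subtype.ext (by
        rw [← hσ' y]; exact (Submodule.Quotient.mk_eq_zero M').mpr hy)
      simp [this]
    have hsup : N ⊔ M' = M'' := by
      refine le_antisymm (sup_le ?_ hle) fun x hx => ?_
      · rintro _ ⟨y, rfl⟩; exact (σ y).2
      · refine Submodule.mem_sup.mpr ⟨_, ⟨g ⟨x, hx⟩, rfl⟩, x - σ (g ⟨x, hx⟩), ?_, by simp⟩
        refine (Submodule.Quotient.mk_eq_zero M').mp ?_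
        change M'.mkQ (x - _) = 0
        rw [map_sub, hσ']
        exact sub_self _
    have hNP : Module.Projective R N := by
      refine Module.Projective.of_equiv (LinearEquiv.ofInjective _ fun a b hab => ?_)
      exact Subtype.ext (by rw [← hσ' a, ← hσ' b]; exact congrArg _ hab)
    have hmem : (insert N 𝒩, J'') ∈ P := by
      refine ⟨?_, independent_insert hI hdisj, fun x hx => hx.elim (fun h => h ▸ hNP) (hP x)⟩
      change Adapted i p (sSup (insert N 𝒩)) J''
      rw [sSup_insert, hsup]
      exact hA'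
    have := (hmax.2 hmem ⟨Set.subset_insert _ _, hJ⟩).1 (Set.mem_insert N 𝒩)
    exact hm ((le_sSup this : N ≤ M') |> fun h => (sup_eq_right.mpr h ▸ hsup).symm ▸
      (Submodule.mem_sup_right (Submodule.subset_span hmC) : m ∈ M''))
  have : ∀ N : ↥𝒩, Module.Projective R N.1 := fun N => hP N.1 N.2
  have hint : DirectSum.IsInternal (fun N : ↥𝒩 => N.1) :=
    DirectSum.isInternal_submodule_iff_iSupIndep_and_iSup_eq_top _ |>.mpr
      ⟨(sSupIndep_iff _).mp hI, by rw [← sSup_eq_iSup', htop]⟩
  exact Module.Projective.of_equiv (LinearEquiv.ofBijective (DirectSum.coeLinearMap _) hint)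

end GrothLib.ProjDescent
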