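import Mathlib

/-!
Faithfully flat descent of projectivity, the countably generated case: an elementary proof.

If `0 → K → F → Q → 0` has `F` free on a countable basis and splits after a faithfully flat base
change, then for each finite set of basis vectors there is a finite set `L ⊆ K` such that any finite
part of `K` is fixed by some `θ : F → K` sending these basis vectors into the span of `L` (a linear
system, whose solvability descends), and such maps are glued into a retraction.
-/

universe u

set_option maxSynthPendingDepth 3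

open TensorProduct

namespace GrothLib.ProjDescent

variable {R : Type u} [CommRing R]

/-- Membership in the range of a linear map descends along faithfully flat ring maps. -/
theorem mem_range_of_one_tmul_mem_range (S : Type u) [CommRing S] [Algebra R S]
    [Module.FaithfullyFlat R S] {M N : Type u} [AddCommGroup M] [Module R M] [AddCommGroup N]
    [Module R N] (f : M →ₗ[R] N) (x : N) (h : (1 : S) ⊗ₜ[R] x ∈ LinearMap.range (f.lTensor S)) :
    x ∈ LinearMap.range f := by
  obtain ⟨z, hz⟩ := h
  rw [← Submodule.Quotient.mk_eq_zero]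
  apply Module.FaithfullyFlat.tensorProduct_mk_injective (A := R) (B := S) (N ⧸ LinearMap.range f)
  simp only [TensorProduct.mk_apply, tmul_zero]
  change (LinearMap.range f).mkQ.lTensor S ((1 : S) ⊗ₜ x) = 0
  rw [← hz, ← LinearMap.comp_apply, ← LinearMap.lTensor_comp, LinearMap.range_mkQ_comp,
    LinearMap.lTensor_zero, LinearMap.zero_apply]

/-- A submodule with countably generated, becoming everything after a faithfully flat base change. -/
theorem eq_top_of_lTensor_subtype_surjective (S : Type u) [CommRing S] [Algebra R S]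
    [Module.FaithfullyFlat R S] {M : Type u} [AddCommGroup M] [Module R M] (N : Submodule R M)
    (h : Function.Surjective (N.subtype.lTensor S)) : N = ⊤ := by
  rw [eq_top_iff]
  intro x _
  obtain ⟨y, hy⟩ := mem_range_of_one_tmul_mem_range S N.subtype x (h _)
  exact hy ▸ y.2

/-- An `S`-span of countably many elements of `S ⊗ M` lies in the image of a countably generated
submodule. -/
theorem exists_countable_span_le {S : Type u} [CommRing S] [Algebra R S] {M : Type u}
    [AddCommGroup M] [Module R M] {ι : Type*} [Countable ι] (x : ι → S ⊗[R] M) :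
    ∃ C : Set M, C.Countable ∧ ∀ i, x i ∈ LinearMap.range ((Submodule.span R C).subtype.lTensor S) := by
  choose t ht using fun i => TensorProduct.exists_finset (x i)
  refine ⟨⋃ i, Prod.snd '' (t i : Set (S × M)),
    Set.countable_iUnion fun i => ((t i).finite_toSet.image _).countable, fun i => ?_⟩
  rw [ht i]
  refine Submodule.sum_mem _ fun j hj => ?_
  exact ⟨j.1 ⊗ₜ ⟨j.2, Submodule.subset_span (Set.mem_iUnion.mpr ⟨i, j, hj, rfl⟩)⟩, rfl⟩

/-- The key statement: finite linear systems descend. -/
theorem exists_lift_fixing {S : Type u} [CommRing S] [Algebra R S] [Module.FaithfullyFlat R S]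
    {K : Submodule R (ℕ →₀ R)} (p : S ⊗[R] (ℕ →₀ R) →ₗ[S] S ⊗[R] K)
    (hp : ∀ y : K, p (1 ⊗ₜ (y : ℕ →₀ R)) = 1 ⊗ₜ y) (n : ℕ) :
    ∃ L : Submodule R K, L.FG ∧ ∀ T : Finset K, ∃ θ : (ℕ →₀ R) →ₗ[R] K,
      (∀ k ∈ T, θ (k : ℕ →₀ R) = k) ∧ ∀ m < n, θ (Finsupp.single m 1) ∈ L := by
  classical
  choose t ht using fun b : Fin n => TensorProduct.exists_finset (p (1 ⊗ₜ Finsupp.single (b : ℕ) 1))
  let G : Finset K := Finset.univ.biUnion fun b => (t b).image Prod.snd
  let L : Submodule R K := Submodule.span R (G : Set K)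
  refine ⟨L, ⟨G, rfl⟩, fun T => ?_⟩
  obtain ⟨M, hnM, hM⟩ : ∃ M, n ≤ M ∧ ∀ k ∈ T, ∀ j ∈ (k : ℕ →₀ R).support, j < M := by
    refine ⟨max n ((T.sup fun k => (k : ℕ →₀ R).support.sup id) + 1), le_max_left _ _,
      fun k hk j hj => lt_max_iff.mpr (Or.inr (Nat.lt_succ_iff.mpr ?_))⟩
    exact (Finset.le_sup (f := id) hj).trans
      (Finset.le_sup (f := fun k : K => (k : ℕ →₀ R).support.sup id) hk)
  let Θ : (Fin M → K) →ₗ[R] ((ℕ →₀ R) →ₗ[R] K) :=
    { toFun := fun v => Finsupp.linearCombination R fun j => if h : j < M then v ⟨j, h⟩ else 0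
      map_add' := fun v w => by
        apply Finsupp.lhom_ext
        intro j r
        simp only [Finsupp.linearCombination_single, LinearMap.add_apply]
        split_ifs <;> simp [smul_add]
      map_smul' := fun c v => by
        apply Finsupp.lhom_ext
        intro j r
        simp only [Finsupp.linearCombination_single, LinearMap.smul_apply, RingHom.id_apply]
        split_ifs
        · exact smul_comm r c _
        · simp }
  let Ψ : (Fin M → K) →ₗ[R] (↥T → K) × (Fin n → K ⧸ L) :=
    LinearMap.prod (LinearMap.pi fun k => (LinearMap.applyₗ (k.1 : ℕ →₀ R)) ∘ₗ Θ)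
      (LinearMap.pi fun b => L.mkQ ∘ₗ (LinearMap.applyₗ (Finsupp.single (b : ℕ) 1)) ∘ₗ Θ)
  suffices h : ((fun k : ↥T => k.1), 0) ∈ LinearMap.range Ψ by
    obtain ⟨v, hv⟩ := h
    refine ⟨Θ v, fun k hk => congrFun congr($(hv).1) ⟨k, hk⟩, fun m hm => ?_⟩
    exact (Submodule.Quotient.mk_eq_zero L).mp (congrFun congr($(hv).2) ⟨m, hm⟩)
  refine mem_range_of_one_tmul_mem_range S Ψ _ ?_
  let z : S ⊗[R] (Fin M → K) :=
    ∑ j : Fin M, (LinearMap.single R (fun _ : Fin M => K) j).lTensor S (p (1 ⊗ₜ Finsupp.single (j : ℕ) 1))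
  refine ⟨z, ?_⟩
  have key : ∀ (j : Fin M) (f : ℕ →₀ R) (y : K),
      Θ (LinearMap.single R (fun _ : Fin M => K) j y) f = f j • y := by
    intro j f y
    induction f using Finsupp.induction_linear with
    | zero => simp
    | add f g hf hg => rw [map_add, hf, hg, Finsupp.add_apply, add_smul]
    | single i r =>
      change Finsupp.linearCombination R _ _ = _
      rw [Finsupp.linearCombination_single, Finsupp.single_apply]
      split_ifs with h1 h2 h2
      · subst h2; simp
      · rw [LinearMap.single_apply, Pi.single_eq_of_ne (fun e => h2 (by simp [← e]))]; simp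
      · exact absurd (h2 ▸ j.2) h1
      · simp
  apply (TensorProduct.prodRight R R S (↥T → K) (Fin n → K ⧸ L)).injective
  refine Prod.ext ?_ ?_
  · apply (TensorProduct.piRight R R S fun _ : ↥T => K).injective
    funext k
    have h1 : ∀ w, TensorProduct.piRight R R S (fun _ : ↥T => K)
        (TensorProduct.prodRight R R S (↥T → K) (Fin n → K ⧸ L) (Ψ.lTensor S w)).1 k =
        ((LinearMap.applyₗ (k.1 : ℕ →₀ R)) ∘ₗ Θ).lTensor S w := by
      intro w
      induction w with
      | zero => simp
      | add x y hx hy => simp only [map_add, Prod.fst_add, Pi.add_apply, hx, hy]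
      | tmul s v => simp [Ψ]
    rw [h1, TensorProduct.prodRight_tmul, TensorProduct.piRight_apply,
      TensorProduct.piRightHom_tmul, map_sum]
    simp_rw [← LinearMap.comp_apply, ← LinearMap.lTensor_comp]
    have h2 : ∀ j : Fin M, ((LinearMap.applyₗ (k.1 : ℕ →₀ R)) ∘ₗ Θ) ∘ₗ
        LinearMap.single R (fun _ : Fin M => K) j = (k.1 : ℕ →₀ R) j • LinearMap.id := fun j =>
      LinearMap.ext fun y => key j _ y
    simp_rw [h2, LinearMap.lTensor_smul, LinearMap.lTensor_id, LinearMap.smul_apply,
      LinearMap.id_apply, ← LinearMap.map_smul_of_tower, ← tmul_smul, ← map_sum, ← tmul_sum]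
    rw [← hp k.1]
    congr 2
    rw [Fin.sum_univ_eq_sum_range (fun j => (k.1 : ℕ →₀ R) j • Finsupp.single j (1 : R)) M]
    simp only [Finsupp.smul_single, smul_eq_mul, mul_one]
    have h3 := Finsupp.sum_of_support_subset (k.1 : ℕ →₀ R) (s := Finset.range M)
      (fun j hj => Finset.mem_range.mpr (hM _ k.2 j hj)) (fun a b => Finsupp.single a b)
      fun i _ => Finsupp.single_zero i
    exact h3.symm.trans (Finsupp.sum_single _)
  · apply (TensorProduct.piRight R R S fun _ : Fin n => K ⧸ L).injective
    funext b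
    have h1 : ∀ w, TensorProduct.piRight R R S (fun _ : Fin n => K ⧸ L)
        (TensorProduct.prodRight R R S (↥T → K) (Fin n → K ⧸ L) (Ψ.lTensor S w)).2 b =
        (L.mkQ ∘ₗ (LinearMap.applyₗ (Finsupp.single (b : ℕ) 1)) ∘ₗ Θ).lTensor S w := by
      intro w
      induction w with
      | zero => simp
      | add x y hx hy => simp only [map_add, Prod.snd_add, Pi.add_apply, hx, hy]
      | tmul s v => simp [Ψ]
    rw [h1, TensorProduct.prodRight_tmul, TensorProduct.piRight_apply,
      TensorProduct.piRightHom_tmul, map_sum]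
    simp_rw [← LinearMap.comp_apply, ← LinearMap.lTensor_comp]
    have h2 : ∀ j : Fin M, (L.mkQ ∘ₗ (LinearMap.applyₗ (Finsupp.single (b : ℕ) 1)) ∘ₗ Θ) ∘ₗ
        LinearMap.single R (fun _ : Fin M => K) j = (Finsupp.single (b : ℕ) (1 : R)) j • L.mkQ :=
      fun j => LinearMap.ext fun y => by
        change L.mkQ (Θ _ _) = _
        rw [key, map_smul]; rfl
    simp_rw [h2, LinearMap.lTensor_smul, LinearMap.smul_apply, Pi.zero_apply, tmul_zero]
    refine Finset.sum_eq_zero fun j _ => ?_
    rw [Finsupp.single_apply]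
    split_ifs with h
    · rw [one_smul, ← h, ht b, map_sum]
      refine Finset.sum_eq_zero fun q hq => ?_
      rw [LinearMap.lTensor_tmul, Submodule.mkQ_apply, (Submodule.Quotient.mk_eq_zero L).mpr
        (Submodule.subset_span (Finset.mem_biUnion.mpr ⟨b, Finset.mem_univ _,
          Finset.mem_image_of_mem _ hq⟩)), tmul_zero]
    · rw [zero_smul]

/-- Gluing: successive corrections converge to a retraction. -/
theorem exists_retraction {K : Submodule R (ℕ →₀ R)} (k : ℕ → K)
    (hk : Submodule.span R (Set.range k) = ⊤)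
    (h : ∀ n, ∃ L : Submodule R K, L.FG ∧ ∀ T : Finset K, ∃ θ : (ℕ →₀ R) →ₗ[R] K,
      (∀ k ∈ T, θ (k : ℕ →₀ R) = k) ∧ ∀ m < n, θ (Finsupp.single m 1) ∈ L) :
    ∃ π : (ℕ →₀ R) →ₗ[R] K, ∀ x : K, π (x : ℕ →₀ R) = x := by
  classical
  choose L hL θ hθ hθL using h
  choose g hg using hL
  let T : ℕ → Finset K := fun n => (Finset.range (n + 1)).biUnion g ∪ (Finset.range n).image k
  have hT : Monotone T := fun a b hab => Finset.union_subset_union
    (Finset.biUnion_subset_biUnion_of_subset_left _ (Finset.range_mono (by omega)))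
    (Finset.image_mono _ (Finset.range_mono hab))
  let u : ℕ → ((ℕ →₀ R) →ₗ[R] K) := fun n => Nat.rec (θ 0 (T 0))
    (fun n u => u + θ n (T (n + 1)) - u ∘ₗ K.subtype ∘ₗ θ n (T (n + 1))) n
  have hsucc : ∀ n, u (n + 1) =
      u n + θ n (T (n + 1)) - u n ∘ₗ K.subtype ∘ₗ θ n (T (n + 1)) := fun _ => rfl
  have hfix : ∀ n, ∀ x ∈ T n, u n (x : ℕ →₀ R) = x := by
    intro n
    induction n with
    | zero => exact fun x hx => hθ 0 (T 0) x hx
    | succ n ih =>
      intro x hx
      rw [hsucc]
      simp [hθ n (T (n + 1)) x hx]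
  have hstab : ∀ n, ∀ m < n, u (n + 1) (Finsupp.single m 1) = u n (Finsupp.single m 1) := by
    intro n m hm
    have h1 : ∀ x ∈ L n, u n (x : ℕ →₀ R) = x := by
      intro x hx
      rw [← hg n] at hx
      induction hx using Submodule.span_induction with
      | mem y hy => exact hfix n y (Finset.mem_union_left _
          (Finset.mem_biUnion.mpr ⟨n, Finset.self_mem_range_succ n, hy⟩))
      | zero => simp
      | add a b _ _ ha hb => rw [Submodule.coe_add, map_add, ha, hb]
      | smul r a _ ha => rw [Submodule.coe_smul, map_smul, ha]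
    rw [hsucc]
    simp [h1 _ (hθL n (T (n + 1)) m hm)]
  have hstab' : ∀ m n, m < n → u n (Finsupp.single m 1) = u (m + 1) (Finsupp.single m 1) := by
    intro m n hmn
    induction n, hmn using Nat.le_induction with
    | base => rfl
    | succ n hn ih => rw [hstab n m hn, ih]
  let π : (ℕ →₀ R) →ₗ[R] K := Finsupp.linearCombination R fun m => u (m + 1) (Finsupp.single m 1)
  refine ⟨π, fun x => ?_⟩
  suffices h : ∀ i, π (k i : ℕ →₀ R) = k i by
    have : (π ∘ₗ K.subtype) = LinearMap.id := LinearMap.ext_on_range hk h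
    exact LinearMap.congr_fun this x
  intro i
  let N := max (i + 1) ((k i : ℕ →₀ R).support.sup id + 1)
  have h2 : π (k i : ℕ →₀ R) = u N (k i : ℕ →₀ R) := by
    conv_rhs => rw [← Finsupp.sum_single (k i : ℕ →₀ R), map_finsuppSum]
    rw [Finsupp.linearCombination_apply]
    refine Finset.sum_congr rfl fun m hm => ?_
    dsimp only
    rw [← Finsupp.smul_single_one m ((k i : ℕ →₀ R) m), map_smul, hstab' m N]
    exact lt_max_iff.mpr (Or.inr (Nat.lt_succ_iff.mpr (Finset.le_sup (f := id) hm)))
  rw [h2]
  exact hfix N _ (Finset.mem_union_right _ (Finset.mem_image_of_mem _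
    (Finset.mem_range.mpr (lt_of_lt_of_le (Nat.lt_succ_self i) (le_max_left _ _)))))

/-- The countably generated case. -/
theorem projective_of_countable (S : Type u) [CommRing S] [Algebra R S] [Module.FaithfullyFlat R S]
    {Q : Type u} [AddCommGroup Q] [Module R Q] [Module.Projective S (S ⊗[R] Q)] (q : ℕ → Q)
    (hq : Submodule.span R (Set.range q) = ⊤) : Module.Projective R Q := by
  classical
  let g : (ℕ →₀ R) →ₗ[R] Q := Finsupp.linearCombination R q
  have hg : Function.Surjective g := by
    rw [← LinearMap.range_eq_top, Finsupp.range_linearCombination, hq]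
  let K := LinearMap.ker g
  obtain ⟨σ, hσ⟩ := Module.projective_lifting_property (g.baseChange S) LinearMap.id
    (LinearMap.lTensor_surjective S hg)
  have hinj : Function.Injective (K.subtype.baseChange S) :=
    Module.Flat.lTensor_preserves_injective_linearMap _ K.injective_subtype
  have hex : Function.Exact (K.subtype.baseChange S) (g.baseChange S) :=
    lTensor_exact S (LinearMap.exact_subtype_ker_map g) hg
  have hmem : ∀ w, w - σ (g.baseChange S w) ∈ LinearMap.range (K.subtype.baseChange S) := by
    intro w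
    have := LinearMap.congr_fun hσ (g.baseChange S w)
    exact (hex _).mp (by rw [map_sub, sub_eq_zero]; exact this.symm)
  let e := LinearEquiv.ofInjective (K.subtype.baseChange S) hinj
  let p : S ⊗[R] (ℕ →₀ R) →ₗ[S] S ⊗[R] K :=
    e.symm.toLinearMap ∘ₗ LinearMap.codRestrict _ (LinearMap.id - σ ∘ₗ g.baseChange S) hmem
  have hp : ∀ y : K, p (1 ⊗ₜ (y : ℕ →₀ R)) = 1 ⊗ₜ y := by
    intro y
    apply hinj
    have h1 : ∀ w, K.subtype.baseChange S (p w) = w - σ (g.baseChange S w) := fun w => by
      have := congrArg Subtype.val (e.apply_symm_apply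
        ⟨w - σ (g.baseChange S w), hmem w⟩)
      exact this
    rw [h1, LinearMap.baseChange_tmul, LinearMap.baseChange_tmul,
      show g (y : ℕ →₀ R) = 0 from y.2, tmul_zero, map_zero, sub_zero]
    rfl
  obtain ⟨C, hC, hCmem⟩ := exists_countable_span_le (S := S) (fun m => p (1 ⊗ₜ Finsupp.single m 1))
  have hCtop : Submodule.span R C = ⊤ := by
    apply eq_top_of_lTensor_subtype_surjective S
    intro w
    let Im : Submodule S (S ⊗[R] K) := LinearMap.range ((Submodule.span R C).subtype.baseChange S)
    suffices h : w ∈ Im from h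
    induction w with
    | zero => exact zero_mem _
    | add x y hx hy => exact add_mem hx hy
    | tmul s y =>
      have : s ⊗ₜ[R] y = s • p (1 ⊗ₜ (y : ℕ →₀ R)) := by
        rw [hp, smul_tmul', smul_eq_mul, mul_one]
      rw [this]
      refine Submodule.smul_mem _ _ ?_
      rw [← Finsupp.sum_single (y : ℕ →₀ R), Finsupp.sum, tmul_sum, map_sum]
      refine Submodule.sum_mem _ fun m _ => ?_
      rw [← Finsupp.smul_single_one, tmul_smul, LinearMap.map_smul_of_tower]
      exact Submodule.smul_of_tower_mem _ _ (hCmem m)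
  obtain ⟨k, hk⟩ := (Set.countable_insert.mpr hC : (insert (0 : K) C).Countable).exists_eq_range
    (Set.insert_nonempty _ _)
  have hk' : Submodule.span R (Set.range k) = ⊤ :=
    top_le_iff.mp (hCtop ▸ Submodule.span_mono (hk ▸ Set.subset_insert _ _))
  obtain ⟨π, hπ⟩ := exists_retraction k hk' (exists_lift_fixing p hp)
  let f : Q →ₗ[R] (ℕ →₀ R) := (LinearMap.ker g).liftQ (LinearMap.id - K.subtype ∘ₗ π)
      (fun x hx => by
        rw [LinearMap.mem_ker, LinearMap.sub_apply, sub_eq_zero]
        exact (congrArg Subtype.val (hπ ⟨x, hx⟩)).symm) ∘ₗ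
    (g.quotKerEquivOfSurjective hg).symm.toLinearMap
  refine Module.Projective.of_split f g (LinearMap.ext fun x => ?_)
  obtain ⟨w, rfl⟩ := hg x
  have h1 : (g.quotKerEquivOfSurjective hg).symm (g w) = Submodule.Quotient.mk w :=
    (g.quotKerEquivOfSurjective hg).injective (by rw [LinearEquiv.apply_symm_apply]; rfl)
  simp only [f, LinearMap.comp_apply, LinearEquiv.coe_coe, h1, Submodule.liftQ_apply,
    LinearMap.sub_apply, LinearMap.id_apply, map_sub, LinearMap.id_coe, id_eq]
  rw [show g (K.subtype (π w)) = 0 from (π w).2, sub_zero]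

end GrothLib.ProjDescent
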